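import Cfsg.Agent.Lib.Small.Char2Invol.Basic
import Cfsg.Agent.Lib.Lie.TwistD4W

/-!
The unipotent group of D₄ in characteristic two: the Heisenberg part W and the three outer roots.
Roots: 18, 13, 12 outer; 14 central; 19, 16, 15 and 17, 20, 21 the middle layers; 22; 23 highest.
-/

set_option autoImplicit false
set_option maxRecDepth 4000
set_option linter.unusedSectionVars false

namespace Cfsg.Agent.Small.C2Inv.D4

open Cfsg.Lie Cfsg.Agent.Lie
open scoped MatrixGroups

variable {K : Type*} [Field K] [CharP K 2]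

/-- A root element. -/
noncomputable abbrev X (r : ℕ) (t : K) : GL chevD4.Idx K := factsD4.xg r t

theorem nroots_eq : chevD4.nroots = 24 := rfl

theorem zero' (r : ℕ) : X r (0 : K) = 1 := factsD4.xg_zero r

theorem add' (r : ℕ) (t u : K) : X r t * X r u = X r (t + u) := (factsD4.xg_add r t u).symm

theorem addP (P : GL chevD4.Idx K) (r : ℕ) (t u : K) : P * X r t * X r u = P * X r (t + u) := by
  rw [mul_assoc, add']

theorem self_mul (r : ℕ) (t : K) : X r t * X r t = 1 := by
  rw [add', CharTwo.add_self_eq_zero, zero']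

theorem swap {r s : ℕ} {L : List (ℕ × ℤ × ℕ × ℕ)} (h : chevD4.commTerms r s = L) (hr : r < 24)
    (hs : s < 24) (h1 : s ≠ r) (h2 : s ≠ chevD4.neg r) (t u : K) :
    X s u * X r t = X r t * X s u *
      (L.map fun c => X c.1 ((c.2.1 : K) * (-t) ^ c.2.2.1 * u ^ c.2.2.2)).prod := by
  have key := (factsD4.tsys K).x_comm r s (by rw [nroots_eq]; exact hr) (by rw [nroots_eq]; exact hs) h1 h2 t u
  simp only [ChevalleyDatum.commWord, h, List.map_map] at key
  exact key

/-- Pairs of roots with a commutator at the given root. -/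
def brk : List (ℕ × ℕ × ℕ) :=
  [(12, 14, 15), (12, 16, 17), (12, 19, 20), (12, 21, 22), (13, 14, 16), (13, 15, 17), (13, 19, 21),
   (13, 20, 22), (14, 18, 19), (14, 22, 23), (15, 18, 20), (15, 21, 23), (16, 18, 21), (16, 20, 23),
   (17, 18, 22), (17, 19, 23)]

theorem brk_ok : ∀ p ∈ brk, (chevD4.commTerms p.1 p.2.1 = [(p.2.2, 1, 1, 1)] ∨
    chevD4.commTerms p.1 p.2.1 = [(p.2.2, -1, 1, 1)]) ∧ p.1 < 24 ∧ p.2.1 < 24 ∧ p.2.1 ≠ p.1 ∧
    p.2.1 ≠ chevD4.neg p.1 := by decide +kernel

theorem brk_none : ∀ r : Fin 24, ∀ s : Fin 24, 12 ≤ r.val → r.val < s.val →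
    (∀ p ∈ brk, ¬ (p.1 = r.val ∧ p.2.1 = s.val)) →
      chevD4.commTerms r.val s.val = [] ∧ s.val ≠ chevD4.neg r.val := by decide +kernel

theorem swapB {r s k : ℕ} (h : (r, s, k) ∈ brk) (t u : K) :
    X s u * X r t = X r t * X s u * X k (t * u) := by
  obtain ⟨h, hr, hs, h1, h2⟩ := brk_ok _ h
  rcases h with h | h <;>
    · rw [swap h hr hs h1 h2]
      simp [CharTwo.neg_eq]

/-- The two roots commute. -/
def Free (a r : ℕ) : Prop :=
  12 ≤ a ∧ a < 24 ∧ 12 ≤ r ∧ r < 24 ∧ ∀ p ∈ brk, ¬ ((p.1 = a ∧ p.2.1 = r) ∨ (p.1 = r ∧ p.2.1 = a))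

instance (a r : ℕ) : Decidable (Free a r) := by unfold Free; infer_instance

theorem com {a r : ℕ} (h : Free a r) (t v : K) : X a t * X r v = X r v * X a t := by
  obtain ⟨ha, ha', hr, hr', hp⟩ := h
  rcases lt_trichotomy a r with hlt | rfl | hlt
  · obtain ⟨h, h2⟩ := brk_none ⟨a, ha'⟩ ⟨r, hr'⟩ ha hlt fun p h hh => hp p h (Or.inl hh)
    rw [swap h ha' hr' hlt.ne' h2]
    simp
  · rw [add', add', add_comm]
  · obtain ⟨h, h2⟩ := brk_none ⟨r, hr'⟩ ⟨a, ha'⟩ hr hlt fun p h hh => hp p h (Or.inr hh)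
    rw [swap h hr' ha' hlt.ne' h2]
    simp

theorem mv (a r : ℕ) (h : Free a r) (P : GL chevD4.Idx K) (t v : K) :
    P * X a t * X r v = P * X r v * X a t := by
  rw [mul_assoc, com h, ← mul_assoc]

theorem swapB' {r s k : ℕ} (h : (r, s, k) ∈ brk) (t u : K) :
    X r t * X s u = X s u * X r t * X k (t * u) := by
  rw [swapB h, mul_assoc (X r t * X s u), self_mul, mul_one]

/-- The pair of bad roots inside R. -/
theorem mvs (a r : ℕ) (h : (r, a, 23) ∈ brk ∨ (a, r, 23) ∈ brk)
    (P : GL chevD4.Idx K) (t v : K) :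
    P * X a t * X r v = P * X r v * X a t * X 23 (t * v) := by
  rcases h with h | h
  · rw [mul_assoc, swapB h, mul_comm v t]
    simp only [mul_assoc]
  · rw [mul_assoc, swapB' h]
    simp only [mul_assoc]

/-- An element of the Heisenberg part. -/
noncomputable def W (b c1 c2 c3 d1 d2 d3 e f : K) : GL chevD4.Idx K :=
  X 14 b * X 19 c1 * X 16 c2 * X 15 c3 * X 17 d1 * X 20 d2 * X 21 d3 * X 22 e * X 23 f

theorem W_zero : W (0 : K) 0 0 0 0 0 0 0 0 = 1 := by simp [W, zero']

variable (b c1 c2 c3 d1 d2 d3 e f v : K)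

theorem mul23 : W b c1 c2 c3 d1 d2 d3 e f * X 23 v = W b c1 c2 c3 d1 d2 d3 e (f + v) := by
  simp only [W, addP]

theorem mul22 : W b c1 c2 c3 d1 d2 d3 e f * X 22 v = W b c1 c2 c3 d1 d2 d3 (e + v) f := by
  simp only [W]
  rw [mv 23 22 (by decide), addP]

theorem mul21 : W b c1 c2 c3 d1 d2 d3 e f * X 21 v = W b c1 c2 c3 d1 d2 (d3 + v) e f := by
  simp only [W]
  rw [mv 23 21 (by decide), mv 22 21 (by decide), addP]

theorem mul20 : W b c1 c2 c3 d1 d2 d3 e f * X 20 v = W b c1 c2 c3 d1 (d2 + v) d3 e f := by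
  simp only [W]
  rw [mv 23 20 (by decide), mv 22 20 (by decide), mv 21 20 (by decide), addP]

theorem mul17 : W b c1 c2 c3 d1 d2 d3 e f * X 17 v = W b c1 c2 c3 (d1 + v) d2 d3 e f := by
  simp only [W]
  rw [mv 23 17 (by decide), mv 22 17 (by decide), mv 21 17 (by decide), mv 20 17 (by decide), addP]

theorem mul15 : W b c1 c2 c3 d1 d2 d3 e f * X 15 v = W b c1 c2 (c3 + v) d1 d2 d3 e (f + d3 * v) := by
  simp only [W]
  rw [mv 23 15 (by decide), mv 22 15 (by decide), mvs 21 15 (by decide),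
    mv 20 15 (by decide), mv 17 15 (by decide), addP, mv 23 22 (by decide), addP, add_comm (d3 * v)]

theorem mul16 : W b c1 c2 c3 d1 d2 d3 e f * X 16 v = W b c1 (c2 + v) c3 d1 d2 d3 e (f + d2 * v) := by
  simp only [W]
  rw [mv 23 16 (by decide), mv 22 16 (by decide), mv 21 16 (by decide),
    mvs 20 16 (by decide), mv 17 16 (by decide), mv 15 16 (by decide), addP,
    mv 23 21 (by decide), mv 23 22 (by decide), addP, add_comm (d2 * v)]

theorem mul19 : W b c1 c2 c3 d1 d2 d3 e f * X 19 v = W b (c1 + v) c2 c3 d1 d2 d3 e (f + d1 * v) := by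
  simp only [W]
  rw [mv 23 19 (by decide), mv 22 19 (by decide), mv 21 19 (by decide), mv 20 19 (by decide),
    mvs 17 19 (by decide), mv 15 19 (by decide), mv 16 19 (by decide), addP,
    mv 23 20 (by decide), mv 23 21 (by decide), mv 23 22 (by decide), addP, add_comm (d1 * v)]

theorem mul14 : W b c1 c2 c3 d1 d2 d3 e f * X 14 v = W (b + v) c1 c2 c3 d1 d2 d3 e (f + e * v) := by
  simp only [W]
  rw [mv 23 14 (by decide), mvs 22 14 (by decide), mv 21 14 (by decide),
    mv 20 14 (by decide), mv 17 14 (by decide), mv 15 14 (by decide), mv 16 14 (by decide),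
    mv 19 14 (by decide), add', addP, add_comm (e * v)]

variable (b' c1' c2' c3' d1' d2' d3' e' f' : K)

theorem mulW : W b c1 c2 c3 d1 d2 d3 e f * W b' c1' c2' c3' d1' d2' d3' e' f' =
    W (b + b') (c1 + c1') (c2 + c2') (c3 + c3') (d1 + d1') (d2 + d2') (d3 + d3') (e + e')
      (f + f' + e * b' + d1 * c1' + d2 * c2' + d3 * c3') := by
  have h : W b c1 c2 c3 d1 d2 d3 e f * W b' c1' c2' c3' d1' d2' d3' e' f' =
      W b c1 c2 c3 d1 d2 d3 e f * X 14 b' * X 19 c1' * X 16 c2' * X 15 c3' * X 17 d1' * X 20 d2' *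
        X 21 d3' * X 22 e' * X 23 f' := by
    simp only [W, mul_assoc]
  rw [h, mul14, mul19, mul16, mul15, mul17, mul20, mul21, mul22, mul23]
  congr 1
  ring

theorem W_inv : (W b c1 c2 c3 d1 d2 d3 e f)⁻¹ =
    W b c1 c2 c3 d1 d2 d3 e (f + e * b + d1 * c1 + d2 * c2 + d3 * c3) := by
  refine inv_eq_of_mul_eq_one_right ?_
  rw [mulW, ← W_zero]
  simp only [CharTwo.add_self_eq_zero]
  congr 1
  have h2 := (CharTwo.two_eq_zero : (2 : K) = 0)
  linear_combination (f + e * b + d1 * c1 + d2 * c2 + d3 * c3) * h2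

omit [CharP K 2] in
theorem dist {G : Type*} [Monoid G] {x : G} (hx : x * x = 1) (a c : G) : x * (a * c) * x = x * a * x * (x * c * x) := by
  calc x * (a * c) * x = x * a * (x * x) * c * x := by rw [hx, mul_one]; simp only [mul_assoc]
    _ = _ := by simp only [mul_assoc]

theorem cj_free {s r : ℕ} (h : Free s r) (u : K) : X s v * X r u * X s v = X r u := by
  rw [com h, mul_assoc, self_mul, mul_one]

theorem cj_lt {s r k : ℕ} (h : (s, r, k) ∈ brk) (u : K) : X s v * X r u * X s v = X r u * X k (u * v) := by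
  rw [mul_assoc, swapB h, ← mul_assoc, ← mul_assoc, self_mul, one_mul, mul_comm v]

theorem cj_gt {s r k : ℕ} (h : (r, s, k) ∈ brk) (hk : Free k s) (u : K) :
    X s v * X r u * X s v = X r u * X k (u * v) := by
  rw [swapB h, mul_assoc (X r u * X s v), com hk, ← mul_assoc, mul_assoc (X r u), self_mul, mul_one]

theorem W_start : X 14 b = W b 0 0 0 0 0 0 0 (0 : K) := by simp [W, zero']

theorem conj18 : X 18 v * W b c1 c2 c3 d1 d2 d3 e f * X 18 v =
    W b (c1 + b * v) c2 c3 d1 (d2 + c3 * v) (d3 + c2 * v) (e + d1 * v) (f + c2 * c3 * v) := by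
  rw [W]
  simp only [dist (self_mul 18 v), cj_gt v (show (14, 18, 19) ∈ brk by decide) (by decide),
    cj_gt v (show (15, 18, 20) ∈ brk by decide) (by decide), cj_gt v (show (16, 18, 21) ∈ brk by decide) (by decide),
    cj_gt v (show (17, 18, 22) ∈ brk by decide) (by decide), cj_free v (show Free 18 19 by decide),
    cj_free v (show Free 18 20 by decide), cj_free v (show Free 18 21 by decide),
    cj_free v (show Free 18 22 by decide), cj_free v (show Free 18 23 by decide)]
  simp only [← mul_assoc]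
  rw [W_start b]
  simp only [mul19, mul16, mul15, mul17, mul20, mul21, mul22, mul23]
  congr 1 <;> ring

theorem conj13 : X 13 v * W b c1 c2 c3 d1 d2 d3 e f * X 13 v =
    W b c1 (c2 + b * v) c3 (d1 + c3 * v) d2 (d3 + c1 * v) (e + d2 * v) (f + c1 * c3 * v) := by
  rw [W]
  simp only [dist (self_mul 13 v), cj_lt v (show (13, 14, 16) ∈ brk by decide),
    cj_lt v (show (13, 15, 17) ∈ brk by decide), cj_lt v (show (13, 19, 21) ∈ brk by decide),
    cj_lt v (show (13, 20, 22) ∈ brk by decide), cj_free v (show Free 13 16 by decide),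
    cj_free v (show Free 13 17 by decide), cj_free v (show Free 13 21 by decide),
    cj_free v (show Free 13 22 by decide), cj_free v (show Free 13 23 by decide)]
  simp only [← mul_assoc]
  rw [W_start b]
  simp only [mul19, mul16, mul15, mul17, mul20, mul21, mul22, mul23]
  congr 1 <;> ring

theorem conj12 : X 12 v * W b c1 c2 c3 d1 d2 d3 e f * X 12 v =
    W b c1 c2 (c3 + b * v) (d1 + c2 * v) (d2 + c1 * v) d3 (e + d3 * v) (f + c1 * c2 * v) := by
  rw [W]
  simp only [dist (self_mul 12 v), cj_lt v (show (12, 14, 15) ∈ brk by decide),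
    cj_lt v (show (12, 16, 17) ∈ brk by decide), cj_lt v (show (12, 19, 20) ∈ brk by decide),
    cj_lt v (show (12, 21, 22) ∈ brk by decide), cj_free v (show Free 12 15 by decide),
    cj_free v (show Free 12 17 by decide), cj_free v (show Free 12 20 by decide),
    cj_free v (show Free 12 22 by decide), cj_free v (show Free 12 23 by decide)]
  simp only [← mul_assoc]
  rw [W_start b]
  simp only [mul19, mul16, mul15, mul17, mul20, mul21, mul22, mul23]
  congr 1 <;> ring

variable (x y z : K)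

/-- The outer part. -/
noncomputable def Ax : GL chevD4.Idx K := X 18 x * X 13 y * X 12 z

theorem Ax_zero : Ax (0 : K) 0 0 = 1 := by simp [Ax, zero']

theorem Ax_mul (x' y' z' : K) : Ax x y z * Ax x' y' z' = Ax (x + x') (y + y') (z + z') := by
  simp only [Ax, ← mul_assoc]
  rw [mv 12 18 (by decide), mv 13 18 (by decide), add', mv 12 13 (by decide), addP, addP]

theorem Ax_self : Ax x y z * Ax x y z = 1 := by
  rw [Ax_mul, CharTwo.add_self_eq_zero, CharTwo.add_self_eq_zero, CharTwo.add_self_eq_zero, Ax_zero]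

theorem conjA : Ax x y z * W b c1 c2 c3 d1 d2 d3 e f * Ax x y z =
    W b (c1 + b * x) (c2 + b * y) (c3 + b * z) (d1 + c3 * y + c2 * z + b * y * z)
      (d2 + c3 * x + c1 * z + b * x * z) (d3 + c2 * x + c1 * y + b * x * y)
      (e + x * d1 + y * d2 + z * d3 + x * y * c3 + x * z * c2 + y * z * c1 + b * x * y * z)
      (f + c2 * c3 * x + c1 * c3 * y + c1 * c2 * z + b * c3 * x * y + b * c2 * x * z + b * c1 * y * z
        + b * b * x * y * z) := by
  have h : Ax x y z = X 12 z * X 13 y * X 18 x := by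
    rw [Ax, mv 13 12 (by decide), com (show Free 18 12 by decide), mv 18 13 (by decide)]
  conv_lhs => arg 1; arg 1; rw [h]
  rw [show X 12 z * X 13 y * X 18 x * W b c1 c2 c3 d1 d2 d3 e f * Ax x y z =
    X 12 z * (X 13 y * (X 18 x * W b c1 c2 c3 d1 d2 d3 e f * X 18 x) * X 13 y) * X 12 z by
      simp only [Ax, mul_assoc], conj18, conj13, conj12]
  congr 1 <;> ring

end Cfsg.Agent.Small.C2Inv.D4
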