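import Cfsg.Agent.Lib.Small.Char2Invol.D4.Struct

/-!
The two classes of involutions of ³D₄(q), q even.
-/

set_option autoImplicit false
set_option maxRecDepth 4000
set_option linter.unusedSectionVars false

namespace Cfsg.Agent.Small.C2Inv.D4

open Cfsg.Lie Cfsg.Agent.Lie
open Cfsg.Agent.Lie.D4 (Setup)
open Cfsg.Agent.Small.D4Torus (tt)
open scoped MatrixGroups

variable {K : Type*} [Field K] [Fintype K] [CharP K 2] {q : ℕ} (S : Setup K q)

/-- Conjugate inside ³D₄(q). -/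
def CT (K : Type*) [Field K] (q : ℕ) (a a' : GL chevD4.Idx K) : Prop :=
  ∃ g ∈ twistedD4 K q, g * a * g⁻¹ = a'

theorem CT.trans {a b c : GL chevD4.Idx K} (h : CT K q a b) (h' : CT K q b c) : CT K q a c := by
  obtain ⟨g, hg, rfl⟩ := h
  obtain ⟨g', hg', rfl⟩ := h'
  exact ⟨g' * g, mul_mem hg' hg, by group⟩

theorem CT.refl (a : GL chevD4.Idx K) : CT K q a a := ⟨1, one_mem _, by simp⟩

/-- The representative long root element. -/
noncomputable def longRep (q : ℕ) : GL chevD4.Idx K := R q 0 0 0 0 1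

/-- The representative short root element. -/
noncomputable def shortRep (q : ℕ) : GL chevD4.Idx K := R q 0 1 0 0 0

/-- Either class. -/
def Std (q : ℕ) (u : GL chevD4.Idx K) : Prop := CT K q u (longRep q) ∨ CT K q u (shortRep q)

theorem Std.of_ct {u v : GL chevD4.Idx K} (h : CT K q u v) (hv : Std q v) : Std q u :=
  hv.imp h.trans h.trans

/-- The trace to the subfield. -/
def tr (q : ℕ) (x : K) : K := x + x ^ q + (x ^ q) ^ q

include S in
theorem qadd (x y : K) : (x + y) ^ q = x ^ q + y ^ q := by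
  rw [← S.hfr, ← S.hfr, ← S.hfr, map_add]

include S in
theorem qzero : (0 : K) ^ q = 0 := zero_pow (q_ne S)

include S in
theorem tr_fix_of_fix {x : K} (h : x ^ q = x) : tr q x = x := by
  rw [tr, h, h, CharTwo.add_self_eq_zero, zero_add]

include S in
theorem tr_fix (x : K) : tr q x ^ q = tr q x := by
  simp only [tr, qadd S, S.pow_cube x]; ring

include S in
theorem sqrt_fix {a : K} (ha : a ^ q = a) : ∃ z : K, z ^ q = z ∧ z ^ 2 = a := by
  obtain ⟨z, hz⟩ := FiniteField.isSquare_of_char_two (ringChar.eq K 2) a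
  have hz2 : z ^ 2 = a := by rw [pow_two]; exact hz.symm
  refine ⟨z, ?_, hz2⟩
  have h : (z ^ q + z) * (z ^ q + z) = 0 := by
    have h2 := (CharTwo.two_eq_zero : (2 : K) = 0)
    rw [← hz2] at ha
    linear_combination ha + (z ^ q * z) * h2 + z ^ 2 * h2
  have h' := mul_self_eq_zero.1 h
  rwa [CharTwo.add_eq_zero] at h'

include S in
theorem R_mem {b c d e f : K} (hb : b ^ q = b) (he : e ^ q = e) (hf : f ^ q = f) :
    R q b c d e f ∈ twistedD4 K q := by
  have h := mem_twisted S (a := 0) (c := c) (d := d) hb he hf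
  rwa [A, qzero S, qzero S, Ax_zero, one_mul] at h

include S in
theorem A_mem (a : K) : A q a ∈ twistedD4 K q := by
  have h := mem_twisted S (a := a) (b := 0) (c := 0) (d := 0) (e := 0) (f := 0) (qzero S) (qzero S) (qzero S)
  rwa [R, qzero S, qzero S, W_zero, mul_one] at h

theorem A_inv (a : K) : (A q a)⁻¹ = A q a := inv_eq_of_mul_eq_one_right (Ax_self _ _ _)

include S in
theorem R_mul (b c d e f b' c' d' e' f' : K) : R q b c d e f * R q b' c' d' e' f' =
    R q (b + b') (c + c') (d + d') (e + e') (f + f' + e * b' + tr q (d * c')) := by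
  simp only [R, tr, mulW, qadd S, mul_pow]
  congr 1
  ring

include S in
theorem R_zero : R q (0 : K) 0 0 0 0 = 1 := by rw [R, qzero S, qzero S, W_zero]

include S in
theorem R_inv (b c d e f : K) : (R q b c d e f)⁻¹ = R q b c d e (f + e * b + tr q (d * c)) := by
  simp only [R, tr, W_inv, mul_pow]
  congr 1
  ring

include S in
theorem conjAR (a b c d e f : K) : A q a * R q b c d e f * A q a =
    R q b (c + b * a) (d + (c ^ q) ^ q * a ^ q + c ^ q * (a ^ q) ^ q + b * a ^ q * (a ^ q) ^ q)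
      (e + tr q (a * d) + tr q (a * a ^ q * (c ^ q) ^ q) + b * a * a ^ q * (a ^ q) ^ q)
      (f + tr q (a * c ^ q * (c ^ q) ^ q) + b * tr q (a * a ^ q * (c ^ q) ^ q)
        + b * b * a * a ^ q * (a ^ q) ^ q) ∨ ¬ b ^ q = b := by
  by_cases hb : b ^ q = b
  · left
    rw [A, R, conjA, R]
    simp only [tr, qadd S, mul_pow, hb, S.pow_cube a, S.pow_cube c]
    congr 1 <;> ring
  · right; exact hb

include S in
theorem conjAR' {a b c d e f : K} (hb : b ^ q = b) : A q a * R q b c d e f * A q a =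
    R q b (c + b * a) (d + (c ^ q) ^ q * a ^ q + c ^ q * (a ^ q) ^ q + b * a ^ q * (a ^ q) ^ q)
      (e + tr q (a * d) + tr q (a * a ^ q * (c ^ q) ^ q) + b * a * a ^ q * (a ^ q) ^ q)
      (f + tr q (a * c ^ q * (c ^ q) ^ q) + b * tr q (a * a ^ q * (c ^ q) ^ q)
        + b * b * a * a ^ q * (a ^ q) ^ q) :=
  (conjAR S a b c d e f).resolve_right (fun h => h hb)

include S in
theorem ct_A (a : K) (u : GL chevD4.Idx K) : CT K q u (A q a * u * A q a) :=
  ⟨A q a, A_mem S a, by rw [A_inv]⟩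

include S in
theorem ct_R {b c d e f : K} (hb : b ^ q = b) (he : e ^ q = e) (hf : f ^ q = f) (u : GL chevD4.Idx K) :
    CT K q u (R q b c d e f * u * (R q b c d e f)⁻¹) := ⟨_, R_mem S hb he hf, rfl⟩

/-- The composite of reflections. -/
def actL : List (Fin chevD4.rank) → ℕ → ℕ
  | [], s => s
  | i :: ω, s => chevD4.reflectRoot i.val (actL ω s)

theorem actL_lt : ∀ (ω : List (Fin chevD4.rank)) {s : ℕ}, s < 24 → actL ω s < 24
  | [], _, hs => hs
  | i :: ω, _, hs => factsD4.refl_lt i.val i.isLt _ (actL_lt ω hs)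

theorem nw_X : ∀ (ω : List (Fin chevD4.rank)) {s : ℕ}, s < 24 → ∀ t : K,
    (factsD4.tsys K).nw ω * X s t * ((factsD4.tsys K).nw ω)⁻¹ = X (actL ω s) t
  | [], s, _, t => by simp [TorusSys.nw_nil, actL]
  | i :: ω, s, hs, t => by
    rw [TorusSys.nw_cons, show (factsD4.tsys K).nS i * (factsD4.tsys K).nw ω * X s t *
      ((factsD4.tsys K).nS i * (factsD4.tsys K).nw ω)⁻¹ = (factsD4.tsys K).nS i *
      ((factsD4.tsys K).nw ω * X s t * ((factsD4.tsys K).nw ω)⁻¹) * ((factsD4.tsys K).nS i)⁻¹ by group,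
      nw_X ω hs]
    have h := (factsD4.tsys K).nS_conj i (s := actL ω s) (actL_lt ω hs) t
    rw [factsD4.tsys_x, factsD4.tsys_x] at h
    have hsg : factsD4.sgn K i.val (actL ω s) = 1 := by
      rcases factsD4.eta_sign i.val i.isLt _ (actL_lt ω hs) with he | he <;>
        simp [Facts.sgn, he, CharTwo.neg_eq]
    rw [hsg, one_mul] at h
    exact h

/-- The reflection of the triple node. -/
noncomputable def nA : GL chevD4.Idx K :=
  (factsD4.tsys K).nw (orbWord chevD4 Cfsg.Agent.Lie.D4.Os [1])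

/-- The reflection of the central node. -/
noncomputable def nB : GL chevD4.Idx K :=
  (factsD4.tsys K).nw (orbWord chevD4 Cfsg.Agent.Lie.D4.Os [0])

include S in
theorem nA_conj {b c d e f : K} : nA * R q b c d e f * nA⁻¹ = R q e d c b (f + e * b + tr q (c * d)) := by
  have tab : ∀ p ∈ [(14, 22), (19, 17), (16, 20), (15, 21), (17, 19), (20, 16), (21, 15), (22, 14), (23, 23)],
      actL (orbWord chevD4 Cfsg.Agent.Lie.D4.Os [1]) p.1 = p.2 ∧ p.1 < 24 := by decide +kernel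
  have h : ∀ {s s' : ℕ}, (s, s') ∈ [(14, 22), (19, 17), (16, 20), (15, 21), (17, 19), (20, 16), (21, 15), (22, 14), (23, 23)] →
      ∀ t : K, MulAut.conj nA (X s t) = X s' t := fun hp t => by
    obtain ⟨h1, h2⟩ := tab _ hp
    rw [MulAut.conj_apply, nA, nw_X _ h2, h1]
  show MulAut.conj nA (R q b c d e f) = _
  rw [R, W]
  simp only [map_mul, h (s := 14) (s' := 22) (by simp), h (s := 19) (s' := 17) (by simp),
    h (s := 16) (s' := 20) (by simp), h (s := 15) (s' := 21) (by simp), h (s := 17) (s' := 19) (by simp),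
    h (s := 20) (s' := 16) (by simp), h (s := 21) (s' := 15) (by simp), h (s := 22) (s' := 14) (by simp),
    h (s := 23) (s' := 23) (by simp)]
  rw [show X 22 b = W 0 0 0 0 0 0 0 b (0 : K) by simp [W, zero']]
  simp only [mul14, mul19, mul16, mul15, mul17, mul20, mul21, mul22, mul23, R, tr, mul_pow]
  congr 1 <;> ring

include S in
theorem nA_ct {b c d e f : K} : CT K q (R q b c d e f) (R q e d c b (f + e * b + tr q (c * d))) :=
  ⟨nA, Cfsg.Agent.Small.D4Torus.nwOrb_mem S _, nA_conj S⟩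

include S in
theorem nB_A (a : K) : CT K q (A q a) (R q 0 a 0 0 0) := by
  refine ⟨nB, Cfsg.Agent.Small.D4Torus.nwOrb_mem S _, ?_⟩
  have tab : ∀ p ∈ [(18, 19), (13, 16), (12, 15)],
      actL (orbWord chevD4 Cfsg.Agent.Lie.D4.Os [0]) p.1 = p.2 ∧ p.1 < 24 := by decide +kernel
  have h : ∀ {s s' : ℕ}, (s, s') ∈ [(18, 19), (13, 16), (12, 15)] →
      ∀ t : K, MulAut.conj nB (X s t) = X s' t := fun hp t => by
    obtain ⟨h1, h2⟩ := tab _ hp
    rw [MulAut.conj_apply, nB, nw_X _ h2, h1]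
  show MulAut.conj nB (A q a) = _
  rw [A, Ax]
  simp only [map_mul, h (s := 18) (s' := 19) (by simp), h (s := 13) (s' := 16) (by simp),
    h (s := 12) (s' := 15) (by simp)]
  simp [R, W, qzero S, zero']

include S in
theorem nB_B {f : K} : CT K q (R q 0 0 0 f 0) (R q 0 0 0 0 f) := by
  refine ⟨nB, Cfsg.Agent.Small.D4Torus.nwOrb_mem S _, ?_⟩
  have tab : actL (orbWord chevD4 Cfsg.Agent.Lie.D4.Os [0]) 22 = 23 := by decide +kernel
  simp only [R, W, qzero S, zero', one_mul, mul_one, nB]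
  rw [nw_X _ (by norm_num), tab]

include S in
theorem scale_F {f : K} (hf : f ^ q = f) (h0 : f ≠ 0) : CT K q (R q 0 0 0 0 f) (longRep q) := by
  obtain ⟨m, hm⟩ : ∃ m : Kˣ, m = (Units.mk0 f h0)⁻¹ := ⟨_, rfl⟩
  have hmq : m ^ q = m := by
    rw [hm, inv_pow]; congr 1; ext; simpa using hf
  refine ⟨tt S 1 m, S.torus_mem hmq, ?_⟩
  simp only [longRep, R, W, qzero S, zero', one_mul, mul_one]
  rw [tt, X, factsD4.torus_conj _ (show (23 : ℕ) < chevD4.nroots by norm_num [nroots_eq])]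
  congr 1
  rw [Cfsg.Agent.Small.D4Torus.torChar_fin,
    show chevD4.cartan 0 23 = 0 by decide +kernel, show chevD4.cartan 1 23 = 1 by decide +kernel,
    show chevD4.cartan 2 23 = 0 by decide +kernel, show chevD4.cartan 3 23 = 0 by decide +kernel]
  simp [Setup.crd, hm, h0]

include S in
theorem scale_C {c : K} (h0 : c ≠ 0) : CT K q (R q 0 c 0 0 0) (shortRep q) := by
  obtain ⟨t0, ht⟩ := FiniteField.isSquare_of_char_two (ringChar.eq K 2) c⁻¹
  have ht0 : t0 ≠ 0 := fun h => inv_ne_zero h0 (by rw [ht, h, mul_zero])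
  obtain ⟨u, hu⟩ : ∃ u : Kˣ, u = Units.mk0 t0 ht0 := ⟨_, rfl⟩
  refine ⟨tt S u (Cfsg.Agent.Small.D4Torus.nrm q u), S.torus_mem (Cfsg.Agent.Small.D4Torus.nrm_fix S u), ?_⟩
  have hv : (u : K) * u = c⁻¹ := by rw [hu, Units.val_mk0, ← ht]
  simp only [shortRep, R, W, qzero S, zero', one_mul, mul_one, one_pow]
  have key : ∀ r : ℕ, r < 24 → ∀ w : K, tt S u (Cfsg.Agent.Small.D4Torus.nrm q u) * X r w *
      (tt S u (Cfsg.Agent.Small.D4Torus.nrm q u))⁻¹ =
      X r ((torChar chevD4 (S.crd u (Cfsg.Agent.Small.D4Torus.nrm q u)) r : Kˣ) * w) := fun r hr w => by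
    rw [tt, X, factsD4.torus_conj _ (show r < chevD4.nroots by rwa [nroots_eq])]
  have split : ∀ g a b d : GL chevD4.Idx K, g * (a * b * d) * g⁻¹ = g * a * g⁻¹ * (g * b * g⁻¹) * (g * d * g⁻¹) :=
    fun g a b d => by group
  rw [split, key 19 (by norm_num), key 16 (by norm_num), key 15 (by norm_num)]
  simp only [Cfsg.Agent.Small.D4Torus.torChar_fin,
    show chevD4.cartan 0 19 = 1 by decide +kernel, show chevD4.cartan 1 19 = 1 by decide +kernel,
    show chevD4.cartan 2 19 = -1 by decide +kernel, show chevD4.cartan 3 19 = -1 by decide +kernel,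
    show chevD4.cartan 0 16 = -1 by decide +kernel, show chevD4.cartan 1 16 = 1 by decide +kernel,
    show chevD4.cartan 2 16 = 1 by decide +kernel, show chevD4.cartan 3 16 = -1 by decide +kernel,
    show chevD4.cartan 0 15 = -1 by decide +kernel, show chevD4.cartan 1 15 = 1 by decide +kernel,
    show chevD4.cartan 2 15 = -1 by decide +kernel, show chevD4.cartan 3 15 = 1 by decide +kernel]
  have hc1 : (u : K) * u * c = 1 := by rw [hv, inv_mul_cancel₀ h0]
  have hcq : (u : K) ^ q * (u : K) ^ q * c ^ q = 1 := by rw [← mul_pow, ← mul_pow, hc1, one_pow]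
  have hcqq : ((u : K) ^ q) ^ q * ((u : K) ^ q) ^ q * (c ^ q) ^ q = 1 := by
    rw [← mul_pow, ← mul_pow, hcq, one_pow]
  have hu0 : (u : K) ≠ 0 := u.ne_zero
  congr 1
  · congr 1
    · congr 1
      simp [Setup.crd, Cfsg.Agent.Small.D4Torus.nrm]
      field_simp
      linear_combination hc1
    · congr 1
      simp [Setup.crd, Cfsg.Agent.Small.D4Torus.nrm]
      field_simp
      linear_combination hcq
  · congr 1
    simp [Setup.crd, Cfsg.Agent.Small.D4Torus.nrm]
    field_simp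
    linear_combination hcqq

include S in
theorem std_C {c : K} (h0 : c ≠ 0) : Std q (R q 0 c 0 0 0) := Or.inr (scale_C S h0)

include S in
theorem hyperplane {c d : K} (hc : c ≠ 0) (h : tr q (c * d) = 0) :
    ∃ x : K, (c ^ q) ^ q * x ^ q + c ^ q * (x ^ q) ^ q = d := by
  obtain ⟨δ, hδ⟩ : ∃ δ, δ = d / (c ^ q * (c ^ q) ^ q) := ⟨_, rfl⟩
  have hd : δ * (c ^ q * (c ^ q) ^ q) = d := by rw [hδ]; field_simp
  obtain ⟨N, hN⟩ : ∃ N, N = c * c ^ q * (c ^ q) ^ q := ⟨_, rfl⟩
  have hN0 : N ≠ 0 := by rw [hN]; simp [hc]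
  have hNq : N ^ q = N := by rw [hN]; simp only [mul_pow, S.pow_cube c]; ring
  have h' : N * (δ + δ ^ q + (δ ^ q) ^ q) = 0 := by
    have e : c * d = N * δ := by rw [← hd, hN]; ring
    rw [tr, e, mul_pow, mul_pow, hNq, hNq] at h
    linear_combination h
  have h3 := (mul_eq_zero.1 h').resolve_left hN0
  refine ⟨c * δ, ?_⟩
  rw [mul_pow, mul_pow, ← hd]
  have h2 := (CharTwo.two_eq_zero : (2 : K) = 0)
  linear_combination (c ^ q * (c ^ q) ^ q) * h3 - (c ^ q * (c ^ q) ^ q * δ) * h2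

include S in
theorem case_C {c d e f : K} (hc : c ≠ 0) (he : e ^ q = e) (hf : f ^ q = f) (h : tr q (c * d) = 0) :
    Std q (R q 0 c d e f) := by
  obtain ⟨x, hx⟩ := hyperplane S hc h
  obtain ⟨e', he', h1⟩ : ∃ e' : K, e' ^ q = e' ∧
      ∃ f', f' ^ q = f' ∧ CT K q (R q 0 c d e f) (R q 0 c 0 e' f') := by
    have hA := ct_A S x (R q 0 c d e f)
    rw [conjAR' S (qzero S)] at hA
    simp only [zero_mul, add_zero] at hA
    rw [add_assoc d, hx, CharTwo.add_self_eq_zero] at hA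
    refine ⟨_, ?_, _, ?_, hA⟩
    · simp only [qadd S, tr_fix S, he]
    · simp only [qadd S, tr_fix S, hf]
  obtain ⟨f', hf', h1⟩ := h1
  refine Std.of_ct h1 ?_
  -- clear e
  obtain ⟨N, hN⟩ : ∃ N, N = c * c ^ q * (c ^ q) ^ q := ⟨_, rfl⟩
  have hN0 : N ≠ 0 := by rw [hN]; simp [hc]
  have hNq : N ^ q = N := by rw [hN]; simp only [mul_pow, S.pow_cube c]; ring
  obtain ⟨γ, hγ, hγ2⟩ := sqrt_fix S (show (e' / N) ^ q = e' / N by rw [div_pow, he', hNq])
  have hγN : γ ^ 2 * N = e' := by rw [hγ2]; field_simp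
  obtain ⟨f'', hf'', h2⟩ : ∃ f'' : K, f'' ^ q = f'' ∧ CT K q (R q 0 c 0 e' f') (R q 0 c 0 0 f'') := by
    have hA := ct_A S (γ * c) (R q 0 c 0 e' f')
    rw [conjAR' S (qzero S)] at hA
    have e1 : (0 : K) + (c ^ q) ^ q * (γ * c) ^ q + c ^ q * ((γ * c) ^ q) ^ q + 0 * (γ * c) ^ q * ((γ * c) ^ q) ^ q = 0 := by
      rw [mul_pow, mul_pow, hγ, hγ]
      linear_combination (γ * c ^ q * (c ^ q) ^ q) * (CharTwo.two_eq_zero : (2 : K) = 0)
    have e2 : e' + tr q (γ * c * 0) + tr q (γ * c * (γ * c) ^ q * (c ^ q) ^ q) + 0 * (γ * c) * (γ * c) ^ q * ((γ * c) ^ q) ^ q = 0 := by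
      have e3 : γ * c * (γ * c) ^ q * (c ^ q) ^ q = e' := by
        rw [mul_pow, hγ, ← hγN, hN]; ring
      rw [e3, mul_zero, tr_fix_of_fix S (qzero S), tr_fix_of_fix S he', add_zero, CharTwo.add_self_eq_zero,
        zero_mul, zero_mul, zero_mul, zero_add]
    rw [e1, e2, zero_mul, add_zero] at hA
    refine ⟨_, ?_, hA⟩
    simp only [qadd S, tr, mul_pow, hf', hγ, qzero S, zero_mul, S.pow_cube c]; ring
  refine Std.of_ct h2 ?_
  -- clear f
  have h3 := ct_R S (c := (0 : K)) (d := f'' / c) (qzero S) (qzero S) (qzero S) (R q 0 c 0 0 f'')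
  rw [R_inv S, R_mul S, R_mul S] at h3
  simp only [zero_mul, mul_zero, add_zero, zero_add, CharTwo.add_self_eq_zero, div_mul_cancel₀ f'' hc,
    tr_fix_of_fix S hf'', tr_fix_of_fix S (qzero S)] at h3
  exact Std.of_ct h3 (std_C S hc)

include S in
theorem case_B {b c d e f : K} (hb : b ^ q = b) (h0 : b ≠ 0) (he : e ^ q = e) (hf : f ^ q = f)
    (h : e * b + tr q (d * c) = 0) : Std q (R q b c d e f) := by
  obtain ⟨d', e', f', he', hf', h1, h'⟩ : ∃ d' e' f', e' ^ q = e' ∧ f' ^ q = f' ∧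
      CT K q (R q b c d e f) (R q b 0 d' e' f') ∧ e' * b = 0 := by
    obtain ⟨a, ha⟩ : ∃ a, a = c / b := ⟨_, rfl⟩
    have hab : b * a = c := by rw [ha]; field_simp
    have hA := ct_A S a (R q b c d e f)
    rw [conjAR' S hb, hab, CharTwo.add_self_eq_zero] at hA
    refine ⟨_, _, _, ?_, ?_, hA, ?_⟩
    · simp only [← hab, qadd S, tr_fix S, mul_pow, he, hb, S.pow_cube a]; ring
    · simp only [qadd S, tr_fix S, mul_pow, hf, hb, S.pow_cube a]; ring
    · subst hab
      simp only [tr, mul_pow, hb, S.pow_cube a] at h ⊢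
      linear_combination h + (2 * b * b * a * a ^ q * (a ^ q) ^ q) * (CharTwo.two_eq_zero : (2 : K) = 0)
  refine Std.of_ct h1 ?_
  obtain rfl : e' = 0 := (mul_eq_zero.1 h').resolve_right h0
  by_cases hd : d' = 0
  · subst hd
    have h3 := ct_R S (c := (0 : K)) (d := (0 : K)) (qzero S) (show (f' / b) ^ q = f' / b by rw [div_pow, hf', hb])
      (qzero S) (R q b 0 0 0 f')
    rw [R_inv S, R_mul S, R_mul S] at h3
    simp only [zero_mul, mul_zero, add_zero, zero_add, CharTwo.add_self_eq_zero, div_mul_cancel₀ f' h0,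
      tr_fix_of_fix S (qzero S)] at h3
    refine Or.inl ((h3.trans (nA_ct S)).trans ?_)
    simp only [zero_mul, mul_zero, add_zero, tr_fix_of_fix S (qzero S)]
    exact (nB_B S).trans (scale_F S hb h0)
  · refine Std.of_ct (nA_ct S) ?_
    simp only [zero_mul, add_zero, tr_fix_of_fix S (qzero S)]
    exact case_C S hd hb hf' (by rw [mul_zero, tr_fix_of_fix S (qzero S)])

include S in
theorem case_R {b c d e f : K} (hb : b ^ q = b) (he : e ^ q = e) (hf : f ^ q = f)
    (h : e * b + tr q (d * c) = 0) (hne : R q b c d e f ≠ 1) : Std q (R q b c d e f) := by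
  by_cases hb0 : b = 0
  swap
  · exact case_B S hb hb0 he hf h
  subst hb0
  rw [mul_zero, zero_add, mul_comm d] at h
  by_cases hc : c = 0
  swap
  · exact case_C S hc he hf h
  subst hc
  by_cases he0 : e = 0
  swap
  · refine Std.of_ct (nA_ct S) (case_B S he he0 (qzero S) ?_ ?_)
    · simp only [mul_zero, zero_mul, add_zero, tr_fix_of_fix S (qzero S), hf]
    · rw [zero_mul, mul_comm (0 : K) d, mul_zero, tr_fix_of_fix S (qzero S), add_zero]
  subst he0
  by_cases hd : d = 0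
  swap
  · refine Std.of_ct (nA_ct S) ?_
    simp only [zero_mul, add_zero, tr_fix_of_fix S (qzero S)]
    exact case_C S hd (qzero S) hf (by rw [mul_zero, tr_fix_of_fix S (qzero S)])
  subst hd
  exact Or.inl (scale_F S hf fun h0 => hne (by rw [h0, R_zero S]))

include S in
theorem case_A {a b c d e f : K} (ha : a ≠ 0) (hb : b ^ q = b) (he : e ^ q = e) (hf : f ^ q = f)
    (h : A q a * R q b c d e f * A q a = (R q b c d e f)⁻¹) : Std q (A q a * R q b c d e f) := by
  rw [conjAR' S hb, R_inv S, R, R] at h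
  obtain ⟨h1, h2, -, -, h3, -, -, h4, h5⟩ := W_inj h
  clear h1
  have hb0 : b = 0 := by
    have : b * a = 0 := by linear_combination h2
    exact (mul_eq_zero.1 this).resolve_right ha
  subst hb0
  obtain ⟨N, hN⟩ : ∃ N, N = a * a ^ q * (a ^ q) ^ q := ⟨_, rfl⟩
  have hN0 : N ≠ 0 := by rw [hN]; simp [ha]
  have hNq : N ^ q = N := by rw [hN]; simp only [mul_pow, S.pow_cube a]; ring
  -- c is a multiple of a
  obtain ⟨γ, hγ, rfl⟩ : ∃ γ : K, γ ^ q = γ ∧ c = γ * a := by
    obtain ⟨γ, hγc⟩ : ∃ γ, γ = c / a := ⟨_, rfl⟩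
    have hc : c = γ * a := by rw [hγc]; field_simp
    subst hc
    simp only [zero_mul, add_zero, mul_pow] at h3
    have h6 : a ^ q * (a ^ q) ^ q * ((γ ^ q) ^ q + γ ^ q) = 0 := by linear_combination h3
    have h7 := (mul_eq_zero.1 h6).resolve_left (by simp [ha])
    rw [CharTwo.add_eq_zero] at h7
    have h8 : ((γ ^ q) ^ q) ^ q = (γ ^ q) ^ q := by rw [h7]; exact h7
    rw [S.pow_cube γ, h7] at h8
    exact ⟨γ, h8.symm, rfl⟩
  -- clear c
  obtain ⟨d', e', f', he', hf', h1, hd'⟩ : ∃ d' e' f', e' ^ q = e' ∧ f' ^ q = f' ∧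
      CT K q (A q a * R q 0 (γ * a) d e f) (A q a * R q 0 0 d' e' f') ∧ tr q (a * d') = 0 := by
    have h0 := ct_R S (c := (0 : K)) (d := (0 : K)) hγ (qzero S) (qzero S) (A q a * R q 0 (γ * a) d e f)
    rw [show R q γ 0 0 0 0 * (A q a * R q 0 (γ * a) d e f) * (R q γ 0 0 0 0)⁻¹ =
      A q a * ((A q a * R q γ 0 0 0 0 * A q a) * R q 0 (γ * a) d e f * (R q γ 0 0 0 0)⁻¹) by
        conv_rhs => rw [← mul_assoc, ← mul_assoc, ← mul_assoc, ← mul_assoc]
        rw [show A q a * A q a = 1 from Ax_self _ _ _, one_mul]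
        simp only [mul_assoc],
      conjAR' S hγ, R_inv S, R_mul S, R_mul S] at h0
    simp only [zero_mul, mul_zero, add_zero, zero_add, CharTwo.add_self_eq_zero, tr_fix_of_fix S (qzero S),
      qzero S, mul_pow] at h0
    refine ⟨_, _, _, ?_, ?_, h0, ?_⟩
    · simp only [qadd S, mul_pow, he, hγ, S.pow_cube a]; ring
    · simp only [qadd S, tr, mul_pow, hf, he, hγ, S.pow_cube a]; ring
    · have h4' : tr q (a * d) + tr q (a * a ^ q * (((γ * a) ^ q) ^ q)) = 0 := by linear_combination h4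
      simp only [tr, qadd S, mul_pow, hγ, S.pow_cube a] at h4' ⊢
      linear_combination h4'
  refine Std.of_ct h1 ?_
  clear h1 h2 h3 h4 h5
  -- clear d
  obtain ⟨e'', f'', he'', hf'', h1⟩ : ∃ e'' f'', e'' ^ q = e'' ∧ f'' ^ q = f'' ∧
      CT K q (A q a * R q 0 0 d' e' f') (A q a * R q 0 0 0 e'' f'') := by
    obtain ⟨x0, hx0⟩ := hyperplane S ha hd'
    obtain ⟨x, hx⟩ : ∃ x, x = x0 := ⟨_, rfl⟩
    have h0 := ct_R S (c := x) (d := (0 : K)) (qzero S) (qzero S) (qzero S) (A q a * R q 0 0 d' e' f')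
    rw [show R q 0 x 0 0 0 * (A q a * R q 0 0 d' e' f') * (R q 0 x 0 0 0)⁻¹ =
      A q a * ((A q a * R q 0 x 0 0 0 * A q a) * R q 0 0 d' e' f' * (R q 0 x 0 0 0)⁻¹) by
        conv_rhs => rw [← mul_assoc, ← mul_assoc, ← mul_assoc, ← mul_assoc]
        rw [show A q a * A q a = 1 from Ax_self _ _ _, one_mul]
        simp only [mul_assoc],
      conjAR' S (qzero S), R_inv S, R_mul S, R_mul S] at h0
    simp only [zero_mul, mul_zero, add_zero, zero_add, CharTwo.add_self_eq_zero, tr_fix_of_fix S (qzero S)] at h0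
    rw [show (x ^ q) ^ q * a ^ q + x ^ q * (a ^ q) ^ q + d' = 0 by
      rw [hx]; linear_combination hx0 + d' * (CharTwo.two_eq_zero : (2 : K) = 0)] at h0
    refine ⟨_, _, ?_, ?_, h0⟩
    · simp only [qadd S, tr, mul_pow, he', S.pow_cube a, S.pow_cube x]; ring
    · simp only [qadd S, tr, mul_pow, hf', qzero S, mul_zero, zero_mul, add_zero, S.pow_cube a, S.pow_cube x,
        S.pow_cube d']
      ring
  refine Std.of_ct h1 ?_
  -- clear f
  obtain ⟨e3, he3, h2⟩ : ∃ e3, e3 ^ q = e3 ∧ CT K q (A q a * R q 0 0 0 e'' f'') (A q a * R q 0 0 0 e3 0) := by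
    obtain ⟨γ', hg, hg2⟩ := sqrt_fix S (show (f'' / N) ^ q = f'' / N by rw [div_pow, hf'', hNq])
    have hgN : γ' ^ 2 * N = f'' := by rw [hg2]; field_simp
    have h0 := ct_R S (c := γ' * a) (d := (0 : K)) (qzero S) (qzero S) (qzero S) (A q a * R q 0 0 0 e'' f'')
    rw [show R q 0 (γ' * a) 0 0 0 * (A q a * R q 0 0 0 e'' f'') * (R q 0 (γ' * a) 0 0 0)⁻¹ =
      A q a * ((A q a * R q 0 (γ' * a) 0 0 0 * A q a) * R q 0 0 0 e'' f'' * (R q 0 (γ' * a) 0 0 0)⁻¹) by
        conv_rhs => rw [← mul_assoc, ← mul_assoc, ← mul_assoc, ← mul_assoc]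
        rw [show A q a * A q a = 1 from Ax_self _ _ _, one_mul]
        simp only [mul_assoc],
      conjAR' S (qzero S), R_inv S, R_mul S, R_mul S] at h0
    simp only [zero_mul, mul_zero, add_zero, zero_add, CharTwo.add_self_eq_zero, tr_fix_of_fix S (qzero S),
      mul_pow, hg] at h0
    have e1 : γ' * (a ^ q) ^ q * a ^ q + γ' * a ^ q * (a ^ q) ^ q = 0 := by
      linear_combination (γ' * a ^ q * (a ^ q) ^ q) * (CharTwo.two_eq_zero : (2 : K) = 0)
    rw [e1, zero_mul, tr_fix_of_fix S (qzero S), add_zero,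
      show a * (γ' * a ^ q) * (γ' * (a ^ q) ^ q) = f'' by rw [← hgN, hN]; ring,
      tr_fix_of_fix S hf'', CharTwo.add_self_eq_zero] at h0
    refine ⟨_, ?_, h0⟩
    simp only [qadd S, tr, mul_pow, he'', hg, S.pow_cube a]; ring
  refine Std.of_ct h2 ?_
  -- clear e
  have h0 := ct_R S (c := (0 : K)) (d := e3 / a) (qzero S) (qzero S) (qzero S) (A q a * R q 0 0 0 e3 0)
  rw [show R q 0 0 (e3 / a) 0 0 * (A q a * R q 0 0 0 e3 0) * (R q 0 0 (e3 / a) 0 0)⁻¹ =
    A q a * ((A q a * R q 0 0 (e3 / a) 0 0 * A q a) * R q 0 0 0 e3 0 * (R q 0 0 (e3 / a) 0 0)⁻¹) by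
      conv_rhs => rw [← mul_assoc, ← mul_assoc, ← mul_assoc, ← mul_assoc]
      rw [show A q a * A q a = 1 from Ax_self _ _ _, one_mul]
      simp only [mul_assoc],
    conjAR' S (qzero S), R_inv S, R_mul S, R_mul S] at h0
  simp only [qzero S, zero_mul, mul_zero, add_zero, zero_add, CharTwo.add_self_eq_zero,
    tr_fix_of_fix S (qzero S), mul_div_cancel₀ e3 ha, tr_fix_of_fix S he3] at h0
  rw [R_zero S, mul_one] at h0
  exact Or.inr ((h0.trans (nB_A S a)).trans (scale_C S ha))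

include S in
/-- The fixed part of U is a Sylow 2-subgroup. -/
theorem exists_ct_U {g : GL chevD4.Idx K} (hg : g ∈ twistedD4 K q) (hg2 : g * g = 1) :
    ∃ u ∈ (factsD4.tsys K).U, u ∈ twistedD4 K q ∧ CT K q g u := by
  classical
  haveI : Fact (Nat.Prime 2) := ⟨Nat.prime_two⟩
  obtain ⟨n, -, hn⟩ := FiniteField.card K 2
  obtain ⟨m, -, hm⟩ := (Nat.dvd_prime_pow Nat.prime_two).1
    (show q ∣ 2 ^ (n : ℕ) by
      rw [← hn, ← Nat.card_eq_fintype_card, S.hK]; exact dvd_pow_self _ (by norm_num))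
  set U1 := chevD4.posUnipotent K ⊓ twistedD4 K q with hU1
  set U0 := U1.subgroupOf (twistedD4 K q) with hU0
  have hle : U1 ≤ twistedD4 K q := inf_le_right
  have hcard : Nat.card ↥U0 = q ^ 12 := by
    rw [hU0, Nat.card_congr (Subgroup.subgroupOfEquivOfLe hle).toEquiv]
    have hu := S.data.card_U
    change Nat.card ↥(chevD4.posUnipotent K ⊓ twistedD4 K q) ^ 1 = q ^ (chevD4.nroots / 2) at hu
    rwa [pow_one] at hu
  have hp : IsPGroup 2 ↥U0 := IsPGroup.of_card (n := m * 12) (by rw [hcard, hm, ← pow_mul])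
  have hodd : ¬ 2 ∣ U0.index := by
    intro h2
    have h := U0.index_mul_card
    rw [hcard, S.card_group, mul_assoc, mul_assoc, mul_comm (U0.index)] at h
    have hi := Nat.eq_of_mul_eq_mul_left (pow_pos (by have := S.hq; omega) 12) h
    rw [hi] at h2
    have hq2 : 2 ∣ q := by
      rw [hm]; refine dvd_pow_self 2 ?_
      rintro rfl
      have := S.hq
      simp [hm] at this
    have hk : ∀ k, 1 ≤ k → ¬ 2 ∣ q ^ k - 1 := fun k hk h3 => by
      have h4 : 2 ∣ q ^ k := hq2.trans (dvd_pow_self q (by omega))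
      have h5 : 1 ≤ q ^ k := Nat.one_le_pow _ _ (by have := S.hq; omega)
      omega
    rcases Nat.prime_two.dvd_mul.1 h2 with h3 | h3
    · exact hk 2 (by norm_num) h3
    rcases Nat.prime_two.dvd_mul.1 h3 with h3 | h3
    · exact hk 6 (by norm_num) h3
    have h4 : 2 ∣ q ^ 8 + q ^ 4 := Nat.dvd_add (hq2.trans (dvd_pow_self q (by norm_num))) (hq2.trans (dvd_pow_self q (by norm_num)))
    omega
  set x : ↥(twistedD4 K q) := ⟨g, hg⟩
  have hx : IsPGroup 2 ↥(Subgroup.zpowers x) := by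
    intro y
    refine ⟨1, ?_⟩
    obtain ⟨k, hk⟩ := Subgroup.mem_zpowers_iff.1 y.2
    refine Subtype.ext ?_
    show (y : ↥(twistedD4 K q)) ^ 2 ^ 1 = 1
    rw [pow_one, ← hk, ← zpow_natCast, ← _root_.zpow_mul, mul_comm, _root_.zpow_mul]
    have : x ^ ((2 : ℕ) : ℤ) = 1 := by
      rw [zpow_natCast, pow_two]
      exact Subtype.ext hg2
    rw [this, _root_.one_zpow]
  obtain ⟨P, hP⟩ := hx.exists_le_sylow
  obtain ⟨a, ha⟩ := MulAction.exists_smul_eq ↥(twistedD4 K q) P (hp.toSylow hodd)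
  have h2 := congrArg Sylow.toSubgroup ha
  rw [Sylow.coe_subgroup_smul] at h2
  have h3 : a * x * a⁻¹ ∈ (hp.toSylow hodd).toSubgroup := h2 ▸ Subgroup.mem_map.2 ⟨x, hP (Subgroup.mem_zpowers x), rfl⟩
  change a * x * a⁻¹ ∈ U0 at h3
  rw [hU0, Subgroup.mem_subgroupOf] at h3
  refine ⟨(a : GL chevD4.Idx K) * g * (a : GL chevD4.Idx K)⁻¹, ?_, h3.2, ⟨a, a.2, rfl⟩⟩
  rw [factsD4.tsys_U]
  exact h3.1

include S in
/-- Every involution is conjugate to one of the two representatives. -/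
theorem std_of_involution {g : GL chevD4.Idx K} (hg : g ∈ twistedD4 K q) (hg2 : g * g = 1) (hg1 : g ≠ 1) :
    Std q g := by
  obtain ⟨u, hu, huG, hct⟩ := exists_ct_U S hg hg2
  refine Std.of_ct hct ?_
  obtain ⟨x, -, hx⟩ := hct
  have hu2 : u * u = 1 := by
    rw [← hx]
    calc x * g * x⁻¹ * (x * g * x⁻¹) = x * (g * g) * x⁻¹ := by group
      _ = 1 := by rw [hg2]; group
  have hu1 : u ≠ 1 := fun h => hg1 (conj_eq_one_iff.1 (hx.trans h))
  obtain ⟨a, b, c, d, e, f, hb, he, hf, rfl⟩ := fix_form S hu (S.le_fix huG)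
  have hrel : A q a * R q b c d e f * A q a = (R q b c d e f)⁻¹ := by
    refine eq_inv_of_mul_eq_one_left ?_
    rw [mul_assoc _ (A q a) (R q b c d e f)]
    exact hu2
  by_cases ha : a = 0
  · subst ha
    rw [A, qzero S, qzero S, Ax_zero] at hu1 hrel ⊢
    rw [one_mul, mul_one, R_inv S, R, R] at hrel
    rw [one_mul] at hu1 ⊢
    obtain ⟨-, -, -, -, -, -, -, -, h5⟩ := W_inj hrel
    exact case_R S hb he hf (by linear_combination -h5) hu1
  · exact case_A S ha hb he hf hrel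

include S in
theorem longRep_mem : (longRep q : GL chevD4.Idx K) ∈ twistedD4 K q :=
  R_mem S (qzero S) (qzero S) (one_pow q)

include S in
theorem shortRep_mem : (shortRep q : GL chevD4.Idx K) ∈ twistedD4 K q :=
  R_mem S (qzero S) (qzero S) (qzero S)

include S in
theorem reps_sq : (longRep q : GL chevD4.Idx K) * longRep q = 1 ∧ (shortRep q : GL chevD4.Idx K) * shortRep q = 1 ∧
    (longRep q : GL chevD4.Idx K) ≠ 1 ∧ (shortRep q : GL chevD4.Idx K) ≠ 1 := by
  refine ⟨?_, ?_, fun h => ?_, fun h => ?_⟩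
  · simp only [longRep, R_mul S, CharTwo.add_self_eq_zero, mul_zero, zero_mul, add_zero, tr_fix_of_fix S (qzero S)]
    exact R_zero S
  · simp only [shortRep, R_mul S, CharTwo.add_self_eq_zero, mul_zero, zero_mul, add_zero, tr_fix_of_fix S (qzero S)]
    exact R_zero S
  · rw [longRep, R, ← W_zero] at h
    exact one_ne_zero (W_inj h).2.2.2.2.2.2.2.2
  · rw [shortRep, R, ← W_zero] at h
    exact one_ne_zero (W_inj h).2.1

include S in
theorem conj_C_by_U {u : GL chevD4.Idx K} (hu : u ∈ (factsD4.tsys K).U) :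
    ∃ d1 d2 d3 e f : K, u * shortRep q * u⁻¹ = W 0 1 1 1 d1 d2 d3 e f := by
  obtain ⟨x, y, z, b, c1, c2, c3, d1, d2, d3, e, f, rfl⟩ := exists_NF hu
  rw [show Ax x y z * W b c1 c2 c3 d1 d2 d3 e f * shortRep q * (Ax x y z * W b c1 c2 c3 d1 d2 d3 e f)⁻¹ =
    Ax x y z * (W b c1 c2 c3 d1 d2 d3 e f * shortRep q * (W b c1 c2 c3 d1 d2 d3 e f)⁻¹) * (Ax x y z)⁻¹ by group,
    shortRep, R, W_inv, mulW, mulW, inv_eq_of_mul_eq_one_right (Ax_self x y z), conjA]
  have cc : ∀ t : K, t + 1 + t = 1 := fun t => by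
    rw [add_right_comm, CharTwo.add_self_eq_zero, zero_add]
  simp only [qzero S, one_pow, add_zero, CharTwo.add_self_eq_zero, cc, zero_mul]
  exact ⟨_, _, _, _, _, rfl⟩

include S in
/-- The representatives are not conjugate, even in D₄. -/
theorem not_conj {g : GL chevD4.Idx K} (hg : g ∈ chevD4.group K) (h : g * longRep q * g⁻¹ = shortRep q) :
    False := by
  obtain ⟨bb, hbb, w, v, hv', rfl⟩ := factsD4.mem_bnu hg
  have hv : v ∈ (factsD4.tsys K).U :=
    CommSys.US_mono _ (fun r hr => Facts.mem_posL.2 ((TorusSys.closed_invList w).mem_pos r hr)) hv'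
  obtain ⟨u, hu, a, ha, rfl⟩ := (factsD4.tsys K).mem_B.1 hbb
  rw [mul_assoc u a] at h
  have hlong : (longRep q : GL chevD4.Idx K) = X 23 1 := by
    simp [longRep, R, W, qzero S, zero']
  have hvc : v * X 23 (1 : K) * v⁻¹ = X 23 1 := by
    obtain ⟨x, y, z, b, c1, c2, c3, d1, d2, d3, e, f, rfl⟩ := exists_NF hv
    rw [show Ax x y z * W b c1 c2 c3 d1 d2 d3 e f * X 23 (1 : K) * (Ax x y z * W b c1 c2 c3 d1 d2 d3 e f)⁻¹ =
      Ax x y z * (W b c1 c2 c3 d1 d2 d3 e f * X 23 (1 : K) * (W b c1 c2 c3 d1 d2 d3 e f)⁻¹) * (Ax x y z)⁻¹ by group,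
      mul23, W_inv, mulW, inv_eq_of_mul_eq_one_right (Ax_self x y z), conjA,
      show X 23 (1 : K) = W 0 0 0 0 0 0 0 0 1 by simp [W, zero']]
    have h2 := (CharTwo.two_eq_zero : (2 : K) = 0)
    congr 1 <;> simp [CharTwo.add_self_eq_zero]
    linear_combination (f + e * b + d1 * c1 + d2 * c2 + d3 * c3) * h2
  obtain ⟨e, he, heq⟩ := factsD4.nW_conj (F := K) w ⟨23, by norm_num [nroots_eq]⟩
  obtain ⟨t, ht⟩ := ((factsD4.tsys K).H_conj_X ha
    ((w • (⟨23, by norm_num [nroots_eq]⟩ : Fin chevD4.nroots) : Fin chevD4.nroots)).isLt e).1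
  obtain ⟨r, hr, hreq⟩ : ∃ r, r < 24 ∧
      r = ((w • (⟨23, by norm_num [nroots_eq]⟩ : Fin chevD4.nroots) : Fin chevD4.nroots)).val :=
    ⟨_, Fin.isLt _, rfl⟩
  have hkey : X r t = u⁻¹ * shortRep q * u := by
    rw [← h, hlong]
    have h1 := heq 1
    rw [mul_one] at h1
    simp only [Facts.tsys_x] at ht
    rw [show u⁻¹ * (u * (a * (factsD4.tsys K).nW w) * v * X 23 (1 : K) *
      (u * (a * (factsD4.tsys K).nW w) * v)⁻¹) * u = a * ((factsD4.tsys K).nW w *
      (v * X 23 (1 : K) * v⁻¹) * ((factsD4.tsys K).nW w)⁻¹) * a⁻¹ by group, hvc, h1, ht, hreq]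
  obtain ⟨d1, d2, d3, e', f, hC⟩ := conj_C_by_U S (inv_mem hu)
  rw [inv_inv] at hC
  rw [hC] at hkey
  rcases Nat.lt_or_ge r 12 with hlt | hge
  · have hV : X r t ∈ chevD4.negUnipotent K := factsD4.x_mem_negUnipotent hlt t
    have hB : X r t ∈ (factsD4.tsys K).B := by
      rw [hkey]; exact (factsD4.tsys K).U_le_B (W_mem_U _ _ _ _ _ _ _ _ _)
    rw [factsD4.B_inter_V hB hV, ← W_zero] at hkey
    exact one_ne_zero (W_inj hkey).2.1.symm
  · by_cases hA : r ∈ [12, 13, 18]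
    · obtain ⟨x, y, z, hx⟩ : ∃ x y z : K, X r t = Ax x y z := by
        simp only [List.mem_cons, List.not_mem_nil, or_false] at hA
        rcases hA with rfl | rfl | rfl
        exacts [⟨0, 0, t, by simp [Ax, zero']⟩, ⟨0, t, 0, by simp [Ax, zero']⟩, ⟨t, 0, 0, by simp [Ax, zero']⟩]
      rw [hx] at hkey
      have h1 := (Ax_eq_W hkey).2.2.2
      rw [← W_zero] at h1
      exact one_ne_zero (W_inj h1).2.1
    · simp only [List.mem_cons, List.not_mem_nil, or_false, not_or] at hA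
      have hz : ∃ b c1 c2 c3 d1 d2 d3 e f : K, X r t = W b c1 c2 c3 d1 d2 d3 e f ∧ (c1 = 0 ∨ c2 = 0) := by
        interval_cases r
        all_goals first
          | omega
          | (refine ⟨t, 0, 0, 0, 0, 0, 0, 0, 0, ?_, Or.inl rfl⟩; simp [W, zero']; done)
          | (refine ⟨0, t, 0, 0, 0, 0, 0, 0, 0, ?_, Or.inr rfl⟩; simp [W, zero']; done)
          | (refine ⟨0, 0, t, 0, 0, 0, 0, 0, 0, ?_, Or.inl rfl⟩; simp [W, zero']; done)
          | (refine ⟨0, 0, 0, t, 0, 0, 0, 0, 0, ?_, Or.inl rfl⟩; simp [W, zero']; done)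
          | (refine ⟨0, 0, 0, 0, t, 0, 0, 0, 0, ?_, Or.inl rfl⟩; simp [W, zero']; done)
          | (refine ⟨0, 0, 0, 0, 0, t, 0, 0, 0, ?_, Or.inl rfl⟩; simp [W, zero']; done)
          | (refine ⟨0, 0, 0, 0, 0, 0, t, 0, 0, ?_, Or.inl rfl⟩; simp [W, zero']; done)
          | (refine ⟨0, 0, 0, 0, 0, 0, 0, t, 0, ?_, Or.inl rfl⟩; simp [W, zero']; done)
          | (refine ⟨0, 0, 0, 0, 0, 0, 0, 0, t, ?_, Or.inl rfl⟩; simp [W, zero']; done)
      obtain ⟨b, c1, c2, c3, d1', d2', d3', e'', f', hX, h0⟩ := hz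
      rw [hX] at hkey
      obtain ⟨-, hc1, hc2, -⟩ := W_inj hkey
      rcases h0 with rfl | rfl
      exacts [one_ne_zero hc1.symm, one_ne_zero hc2.symm]

end Cfsg.Agent.Small.C2Inv.D4
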