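import Cfsg.Agent.Lib.Small.Char2Invol.D4.Alg
import Cfsg.Agent.Lib.Small.D4Torus.Cent

/-!
Normal forms in U of D₄ and the fixed elements of the triality endomorphism.
-/

set_option autoImplicit false
set_option maxRecDepth 4000
set_option linter.unusedSectionVars false

namespace Cfsg.Agent.Small.C2Inv.D4

open Cfsg.Lie Cfsg.Agent.Lie
open Cfsg.Agent.Lie.D4 (Setup)
open scoped MatrixGroups

variable {K : Type*} [Field K] [CharP K 2]

theorem posL_eq : Facts.posL chevD4 = [12, 13, 14, 15, 16, 17, 18, 19, 20, 21, 22, 23] := by decide +kernel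

variable (b c1 c2 c3 d1 d2 d3 e f x y z : K)

/-- The coefficient function of a sorted product. -/
def crdf (r : ℕ) : K :=
  if r = 12 then z else if r = 13 then y else if r = 14 then b else if r = 15 then c3 else if r = 16 then c2
  else if r = 17 then d1 else if r = 18 then x else if r = 19 then c1 else if r = 20 then d2
  else if r = 21 then d3 else if r = 22 then e else f

theorem prod_sorted : (factsD4.tsys K).prodOver (Facts.posL chevD4) (crdf b c1 c2 c3 d1 d2 d3 e f x y z) =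
    X 12 z * X 13 y * X 14 b * X 15 c3 * X 16 c2 * X 17 d1 * X 18 x * X 19 c1 * X 20 d2 * X 21 d3 * X 22 e * X 23 f := by
  rw [posL_eq]
  simp [CommSys.prodOver, crdf, Facts.tsys_x, mul_assoc]

theorem sorted_W : (factsD4.tsys K).prodOver (Facts.posL chevD4) (crdf b c1 c2 c3 d1 d2 d3 e f 0 0 0) =
    W b c1 c2 c3 d1 d2 d3 e (f + d1 * c1) := by
  rw [prod_sorted, zero', zero', zero']
  simp only [one_mul, mul_one]
  rw [W_start b]
  simp only [mul15, mul16, mul17, mul19, mul20, mul21, mul22, mul23]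
  congr 1 <;> ring

theorem sorted_Ax : (factsD4.tsys K).prodOver (Facts.posL chevD4) (crdf 0 0 0 0 0 0 0 0 0 x y z) =
    Ax x y z := by
  rw [prod_sorted]
  simp only [zero', mul_one]
  rw [mv 13 18 (by decide), com (show Free 12 18 by decide), mv 12 13 (by decide), Ax]

theorem W_inj {b c1 c2 c3 d1 d2 d3 e f b' c1' c2' c3' d1' d2' d3' e' f' : K}
    (h : W b c1 c2 c3 d1 d2 d3 e f = W b' c1' c2' c3' d1' d2' d3' e' f') :
    b = b' ∧ c1 = c1' ∧ c2 = c2' ∧ c3 = c3' ∧ d1 = d1' ∧ d2 = d2' ∧ d3 = d3' ∧ e = e' ∧ f = f' := by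
  have e1 := sorted_W b c1 c2 c3 d1 d2 d3 e (f + d1 * c1)
  have e2 := sorted_W b' c1' c2' c3' d1' d2' d3' e' (f' + d1' * c1')
  rw [CharTwo.add_cancel_right] at e1 e2
  rw [← e1, ← e2] at h
  have k := factsD4.prodOver_inj factsD4.closedList_posL h
  rw [posL_eq] at k
  have h1 : c1 = c1' := by simpa [crdf] using k 19 (by simp)
  have h2 : d1 = d1' := by simpa [crdf] using k 17 (by simp)
  refine ⟨by simpa [crdf] using k 14 (by simp), h1, by simpa [crdf] using k 16 (by simp),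
    by simpa [crdf] using k 15 (by simp), h2, by simpa [crdf] using k 20 (by simp),
    by simpa [crdf] using k 21 (by simp), by simpa [crdf] using k 22 (by simp), ?_⟩
  have h3 : f + d1 * c1 = f' + d1' * c1' := by simpa [crdf] using k 23 (by simp)
  subst h1 h2
  exact add_right_cancel h3

theorem Ax_eq_W {x y z b c1 c2 c3 d1 d2 d3 e f : K} (h : Ax x y z = W b c1 c2 c3 d1 d2 d3 e f) :
    x = 0 ∧ y = 0 ∧ z = 0 ∧ W b c1 c2 c3 d1 d2 d3 e f = 1 := by
  have e1 := sorted_W b c1 c2 c3 d1 d2 d3 e (f + d1 * c1)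
  rw [CharTwo.add_cancel_right] at e1
  have h' := h
  rw [← sorted_Ax, ← e1] at h'
  have k := factsD4.prodOver_inj factsD4.closedList_posL h'
  rw [posL_eq] at k
  have hx : x = 0 := by simpa [crdf] using k 18 (by simp)
  have hy : y = 0 := by simpa [crdf] using k 13 (by simp)
  have hz : z = 0 := by simpa [crdf] using k 12 (by simp)
  subst hx hy hz
  exact ⟨rfl, rfl, rfl, by rw [← h, Ax_zero]⟩

theorem AxW_inj {x y z b c1 c2 c3 d1 d2 d3 e f x' y' z' b' c1' c2' c3' d1' d2' d3' e' f' : K}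
    (h : Ax x y z * W b c1 c2 c3 d1 d2 d3 e f = Ax x' y' z' * W b' c1' c2' c3' d1' d2' d3' e' f') :
    (x = x' ∧ y = y' ∧ z = z') ∧ W b c1 c2 c3 d1 d2 d3 e f = W b' c1' c2' c3' d1' d2' d3' e' f' := by
  have h' : Ax (x' + x) (y' + y) (z' + z) =
      W b' c1' c2' c3' d1' d2' d3' e' f' * (W b c1 c2 c3 d1 d2 d3 e f)⁻¹ := by
    rw [← Ax_mul, eq_mul_inv_iff_mul_eq, mul_assoc, h, ← mul_assoc, Ax_self, one_mul]
  have h'' := h'
  rw [W_inv, mulW] at h''
  obtain ⟨hx, hy, hz, hW⟩ := Ax_eq_W h''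
  rw [CharTwo.add_eq_zero] at hx hy hz
  refine ⟨⟨hx.symm, hy.symm, hz.symm⟩, ?_⟩
  subst hx hy hz
  exact mul_left_cancel h

/-- Elements with a normal form. -/
def NF (u : GL chevD4.Idx K) : Prop :=
  ∃ x y z b c1 c2 c3 d1 d2 d3 e f, u = Ax x y z * W b c1 c2 c3 d1 d2 d3 e f

theorem NF.mulX {u : GL chevD4.Idx K} (hu : NF u) {r : ℕ} (hr : r ∈ Facts.posL chevD4) (v : K) :
    NF (u * X r v) := by
  obtain ⟨x, y, z, b, c1, c2, c3, d1, d2, d3, e, f, rfl⟩ := hu
  have outer : ∀ s x' y' z', X s v = Ax x' y' z' → NF (Ax x y z * W b c1 c2 c3 d1 d2 d3 e f * X s v) := by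
    intro s x' y' z' hs
    have e0 : Ax x y z * W b c1 c2 c3 d1 d2 d3 e f * Ax x' y' z' =
        Ax (x + x') (y + y') (z + z') * (Ax x' y' z' * W b c1 c2 c3 d1 d2 d3 e f * Ax x' y' z') := by
      rw [← Ax_mul]
      simp only [← mul_assoc]
      rw [mul_assoc (Ax x y z) (Ax x' y' z') (Ax x' y' z'), Ax_self, mul_one]
    rw [hs, e0, conjA]
    exact ⟨_, _, _, _, _, _, _, _, _, _, _, _, rfl⟩
  rw [posL_eq] at hr
  simp only [List.mem_cons, List.not_mem_nil, or_false] at hr
  rcases hr with rfl | rfl | rfl | rfl | rfl | rfl | rfl | rfl | rfl | rfl | rfl | rfl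
  exacts [outer 12 0 0 v (by simp [Ax, zero']), outer 13 0 v 0 (by simp [Ax, zero']),
    ⟨_, _, _, _, _, _, _, _, _, _, _, _, by rw [mul_assoc, mul14]⟩,
    ⟨_, _, _, _, _, _, _, _, _, _, _, _, by rw [mul_assoc, mul15]⟩,
    ⟨_, _, _, _, _, _, _, _, _, _, _, _, by rw [mul_assoc, mul16]⟩,
    ⟨_, _, _, _, _, _, _, _, _, _, _, _, by rw [mul_assoc, mul17]⟩,
    outer 18 v 0 0 (by simp [Ax, zero']),
    ⟨_, _, _, _, _, _, _, _, _, _, _, _, by rw [mul_assoc, mul19]⟩,
    ⟨_, _, _, _, _, _, _, _, _, _, _, _, by rw [mul_assoc, mul20]⟩,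
    ⟨_, _, _, _, _, _, _, _, _, _, _, _, by rw [mul_assoc, mul21]⟩,
    ⟨_, _, _, _, _, _, _, _, _, _, _, _, by rw [mul_assoc, mul22]⟩,
    ⟨_, _, _, _, _, _, _, _, _, _, _, _, by rw [mul_assoc, mul23]⟩]

theorem exists_NF {u : GL chevD4.Idx K} (hu : u ∈ (factsD4.tsys K).U) : NF u := by
  obtain ⟨g, rfl⟩ := (factsD4.tsys K).exists_prodOver factsD4.closedList_posL hu
  have key : ∀ L : List ℕ, (∀ r ∈ L, r ∈ Facts.posL chevD4) → ∀ u : GL chevD4.Idx K, NF u →
      NF (u * (factsD4.tsys K).prodOver L g) := by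
    intro L
    induction L with
    | nil => intro _ u hu; simpa [CommSys.prodOver] using hu
    | cons r L ih =>
      intro hL u hu
      have h1 := ih (fun s hs => hL s (List.mem_cons_of_mem _ hs)) _ (hu.mulX (hL r List.mem_cons_self) (g r))
      simpa [CommSys.prodOver, Facts.tsys_x, mul_assoc] using h1
  simpa using key _ (fun r hr => hr) 1 ⟨0, 0, 0, 0, 0, 0, 0, 0, 0, 0, 0, 0, by rw [Ax_zero, W_zero, one_mul]⟩

theorem X_mem_U {r : ℕ} (h1 : 12 ≤ r) (h2 : r < 24) (t : K) : X r t ∈ (factsD4.tsys K).U :=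
  (factsD4.tsys K).x_mem_U h1 h2 t

theorem W_mem_U : W b c1 c2 c3 d1 d2 d3 e f ∈ (factsD4.tsys K).U := by
  simp only [W]
  repeat' apply mul_mem
  all_goals exact X_mem_U (by norm_num) (by norm_num) _

theorem Ax_mem_U : Ax x y z ∈ (factsD4.tsys K).U :=
  mul_mem (mul_mem (X_mem_U (by norm_num) (by norm_num) _) (X_mem_U (by norm_num) (by norm_num) _))
    (X_mem_U (by norm_num) (by norm_num) _)

variable [Fintype K] {q : ℕ} (S : Setup K q)

theorem img_tab : ∀ p ∈ [(18, 13), (13, 12), (12, 18), (14, 14), (19, 16), (16, 15), (15, 19), (17, 20), (20, 21),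
    (21, 17), (22, 22), (23, 23)], graphD4a.img p.1 = p.2 ∧ p.1 < 24 := by decide +kernel

theorem sgn_tab : ∀ r : Fin 24, graphD4a.sign r.val = 1 ∨ graphD4a.sign r.val = -1 := by decide +kernel

theorem sig_X {r r' : ℕ} (h : (r, r') ∈ [(18, 13), (13, 12), (12, 18), (14, 14), (19, 16), (16, 15), (15, 19),
    (17, 20), (20, 21), (21, 17), (22, 22), (23, 23)]) (t : K) : S.T.sig (X r t) = X r' (t ^ q) := by
  obtain ⟨h1, hlt⟩ := img_tab _ h
  rw [S.T.sig_x r hlt, factsD4.imgX_lt _ hlt, S.expo_one hlt, S.hfr, S.hR, h1, pow_one]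
  rcases sgn_tab ⟨r, hlt⟩ with hs | hs <;>
    simp only at hs <;> rw [hs] <;> simp [CharTwo.neg_eq]

theorem sig_AxW : S.T.sig (Ax x y z * W b c1 c2 c3 d1 d2 d3 e f) = Ax (z ^ q) (x ^ q) (y ^ q) *
    W (b ^ q) (c3 ^ q) (c1 ^ q) (c2 ^ q) (d3 ^ q) (d1 ^ q) (d2 ^ q) (e ^ q) (f ^ q) := by
  have hG : ∀ r (t : K), X r t ∈ chevD4.group K := fun r t => factsD4.xg_mem_group r t
  have hG' := fun (a : GL chevD4.Idx K) (ha : a ∈ chevD4.group K) r (t : K) => mul_mem ha (hG r t)
  simp only [W, Ax, ← mul_assoc]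
  have m : ∀ (a : GL chevD4.Idx K), a ∈ chevD4.group K → ∀ r (t : K),
      S.T.sig (a * X r t) = S.T.sig a * S.T.sig (X r t) := fun a ha r t => S.T.sig_mul a ha _ (hG r t)
  rw [m _ (by repeat' apply mul_mem
              all_goals exact hG _ _), m _ (by repeat' apply mul_mem
                                               all_goals exact hG _ _),
    m _ (by repeat' apply mul_mem
            all_goals exact hG _ _), m _ (by repeat' apply mul_mem
                                             all_goals exact hG _ _),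
    m _ (by repeat' apply mul_mem
            all_goals exact hG _ _), m _ (by repeat' apply mul_mem
                                             all_goals exact hG _ _),
    m _ (by repeat' apply mul_mem
            all_goals exact hG _ _), m _ (by repeat' apply mul_mem
                                             all_goals exact hG _ _),
    m _ (by repeat' apply mul_mem
            all_goals exact hG _ _), m _ (by repeat' apply mul_mem
                                             all_goals exact hG _ _),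
    m _ (hG _ _)]
  rw [sig_X S (r := 18) (r' := 13) (by simp), sig_X S (r := 13) (r' := 12) (by simp),
    sig_X S (r := 12) (r' := 18) (by simp), sig_X S (r := 14) (r' := 14) (by simp),
    sig_X S (r := 19) (r' := 16) (by simp), sig_X S (r := 16) (r' := 15) (by simp),
    sig_X S (r := 15) (r' := 19) (by simp), sig_X S (r := 17) (r' := 20) (by simp),
    sig_X S (r := 20) (r' := 21) (by simp), sig_X S (r := 21) (r' := 17) (by simp),
    sig_X S (r := 22) (r' := 22) (by simp), sig_X S (r := 23) (r' := 23) (by simp)]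
  have ha : X 13 (x ^ q) * X 12 (y ^ q) * X 18 (z ^ q) = Ax (z ^ q) (x ^ q) (y ^ q) := by
    rw [mv 12 18 (by decide), com (show Free 13 18 by decide), Ax]
  have hw : X 14 (b ^ q) * X 16 (c1 ^ q) * X 15 (c2 ^ q) * X 19 (c3 ^ q) * X 20 (d1 ^ q) * X 21 (d2 ^ q) *
      X 17 (d3 ^ q) * X 22 (e ^ q) * X 23 (f ^ q) =
      W (b ^ q) (c3 ^ q) (c1 ^ q) (c2 ^ q) (d3 ^ q) (d1 ^ q) (d2 ^ q) (e ^ q) (f ^ q) := by
    rw [W_start (b ^ q)]
    simp only [mul15, mul16, mul17, mul19, mul20, mul21, mul22, mul23]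
    congr 1 <;> ring
  rw [ha]
  simp only [mul_assoc] at hw ⊢
  rw [hw]
  simp only [W, Ax, mul_assoc]

/-- The fixed element with the given coordinates. -/
noncomputable def R (q : ℕ) (b c d e f : K) : GL chevD4.Idx K :=
  W b c (c ^ q) ((c ^ q) ^ q) d (d ^ q) ((d ^ q) ^ q) e f

/-- The fixed element of the outer part. -/
noncomputable def A (q : ℕ) (a : K) : GL chevD4.Idx K := Ax a (a ^ q) ((a ^ q) ^ q)

include S in
theorem q_ne : q ≠ 0 := by have := S.hq; omega

include S in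
theorem fix_form {u : GL chevD4.Idx K} (hu : u ∈ (factsD4.tsys K).U) (hf : u ∈ S.T.fix) :
    ∃ a b c d e f : K, b ^ q = b ∧ e ^ q = e ∧ f ^ q = f ∧ u = A q a * R q b c d e f := by
  obtain ⟨x, y, z, b, c1, c2, c3, d1, d2, d3, e, f, rfl⟩ := exists_NF hu
  have h := hf.2
  rw [sig_AxW] at h
  obtain ⟨⟨hz, hx, hy⟩, hW⟩ := AxW_inj h
  obtain ⟨hb, hc3, hc1, hc2, hd3, hd1, hd2, he, hf'⟩ := W_inj hW
  refine ⟨x, b, c1, d1, e, f, hb, he, hf', ?_⟩
  rw [A, R, hx, hy, hc1, hc2, hd1, hd2]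

include S in
theorem mem_twisted {a b c d e f : K} (hb : b ^ q = b) (he : e ^ q = e) (hf : f ^ q = f) :
    A q a * R q b c d e f ∈ twistedD4 K q := by
  have hU : A q a * R q b c d e f ∈ (factsD4.tsys K).U :=
    mul_mem (Ax_mem_U _ _ _) (W_mem_U _ _ _ _ _ _ _ _ _)
  refine S.data.U_fix_le ⟨hU, S.T.US_le_group _ hU, ?_⟩
  rw [A, R, sig_AxW, S.pow_cube a, S.pow_cube c, S.pow_cube d, hb, he, hf]

end Cfsg.Agent.Small.C2Inv.D4
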